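import Groth.Prelude.Def_SGA1
import Groth.Prelude.Def_Flat
import Mathlib.AlgebraicGeometry.Morphisms.UniversallyInjective
import Mathlib.AlgebraicGeometry.Morphisms.Separated
import Mathlib.AlgebraicGeometry.IdealSheaf.Subscheme
import Mathlib.AlgebraicGeometry.PullbackCarrier
import Mathlib.AlgebraicGeometry.Morphisms.Immersion

/-!
# Factoring a universally submersive morphism through a universal homeomorphism
-/

set_option autoImplicit false
set_option linter.style.haveILetI false
set_option linter.unusedSectionVars false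
set_option backward.isDefEq.respectTransparency.types false

universe u

open CategoryTheory CategoryTheory.Limits AlgebraicGeometry TopologicalSpace

noncomputable section

namespace Groth.L23.WNFac

theorem app_injective_toImage {X Y : Scheme.{u}} (f : X ⟶ Y) [QuasiCompact f] (U : f.image.Opens) :
    Function.Injective (f.toImage.app U).hom :=
  TopCat.Presheaf.app_injective_of_stalkFunctor_map_injective (F := f.image.sheaf) f.toImage.c U
    fun x _ => f.stalkFunctor_toImage_injective x

theorem isSeparated_of_universallyInjective {X Y : Scheme.{u}} (u : X ⟶ Y) [UniversallyInjective u] :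
    IsSeparated u := by
  haveI : Surjective (pullback.diagonal u) := (UniversallyInjective.iff_diagonal u).1 inferInstance
  refine ⟨IsClosedImmersion.of_isPreimmersion _ ?_⟩
  rw [Set.range_eq_univ.mpr (pullback.diagonal u).surjective]
  exact isClosed_univ

theorem isUnivHomeo_of_factor {X Z T : Scheme.{u}} (q : X ⟶ Z) (u : Z ⟶ T) [Surjective q] [UniversallyInjective u]
    (hp : SGA1.UnivSubmersive (q ≫ u)) : FlatMor.IsUnivHomeo u := by
  intro T₂ Z₂ gT gZ u₂ hsq
  let q₂ := pullback.snd q gT
  have hq : IsPullback (pullback.fst q gT) q₂ q gT := IsPullback.of_hasPullback _ _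
  have h2 : IsPullback (pullback.fst q gT) (q₂ ≫ u₂) (q ≫ u) gZ := hq.paste_vert hsq.flip
  have hquot : Topology.IsQuotientMap (q₂ ≫ u₂) := hp _ _ _ h2.flip
  haveI : UniversallyInjective u₂ :=
    MorphismProperty.of_isPullback (P := @UniversallyInjective) hsq.flip inferInstance
  have hu : Topology.IsQuotientMap u₂ := by
    rw [Scheme.Hom.comp_base, TopCat.coe_comp] at hquot
    exact Topology.IsQuotientMap.of_comp q₂.continuous u₂.continuous hquot
  show IsHomeomorph u₂
  exact isHomeomorph_iff_isQuotientMap_injective.2 ⟨hu, u₂.injective⟩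

variable {S X T T' : Scheme.{u}} (πX : X ⟶ S) (t : T ⟶ S) (p : T' ⟶ T) (f' : T' ⟶ X) (hf' : f' ≫ πX = p ≫ t)
  (heq : ∀ (W : Scheme.{u}) [IsReduced W] (w : W ⟶ pullback p p),
    w ≫ pullback.fst p p ≫ f' = w ≫ pullback.snd p p ≫ f')

include heq in
/-- Field valued points with the same image in the base have the same image. -/
theorem comp_eq_of_point {K : Type u} [Field K] (a b : Spec (CommRingCat.of K) ⟶ T') (h : a ≫ p = b ≫ p) :
    a ≫ f' = b ≫ f' := by
  have := heq _ (pullback.lift a b h)
  rwa [pullback.lift_fst_assoc, pullback.lift_snd_assoc] at this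

include heq in
theorem apply_eq_of_apply_eq {a b : T'} (h : p a = p b) : f' a = f' b := by
  obtain ⟨z, hz₁, hz₂⟩ := Scheme.Pullback.exists_preimage_pullback a b h
  have := heq _ ((pullback p p).fromSpecResidueField z)
  have h2 := congrArg (fun k : Spec ((pullback p p).residueField z) ⟶ X => k (IsLocalRing.closedPoint _)) this
  simpa [Scheme.Hom.comp_apply, hz₁, hz₂] using h2

include hf' heq in
theorem exists_factorization [QuasiSeparated πX] [QuasiCompact p] [QuasiSeparated p] (hp : SGA1.UnivSubmersive p) :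
    ∃ (T₁ : Scheme.{u}) (q : T' ⟶ T₁) (u : T₁ ⟶ T) (f₁ : T₁ ⟶ X), q ≫ u = p ∧
      (∀ U : T₁.Opens, Function.Injective (q.app U).hom) ∧ FlatMor.IsUnivHomeo u ∧ IsSeparated u ∧
      q ≫ f₁ = f' ∧ f₁ ≫ πX = u ≫ t := by
  have hpq : Topology.IsQuotientMap p := hp _ _ _ (IsPullback.id_vert p)
  choose W hW hxW _ using fun x : T' =>
    exists_isAffineOpen_mem_and_subset (U := (⊤ : X.Opens)) (x := f' x) trivial
  have hsat : ∀ x, p ⁻¹' (p '' (f' ⁻¹' (W x : Set X))) = f' ⁻¹' (W x : Set X) := fun x => by
    refine Set.Subset.antisymm ?_ (Set.subset_preimage_image _ _)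
    rintro a ⟨b, hb, hab⟩
    show f' a ∈ (W x : Set X)
    rw [← apply_eq_of_apply_eq p f' heq hab]
    exact hb
  let V : T' → T.Opens := fun x => ⟨p '' (f' ⁻¹' (W x : Set X)), by
    rw [← hpq.isOpen_preimage, hsat]
    exact (W x).2.preimage f'.continuous⟩
  let N : T' → (pullback πX t).Opens := fun x => pullback.fst πX t ⁻¹ᵁ W x ⊓ pullback.snd πX t ⁻¹ᵁ V x
  let O : (pullback πX t).Opens := iSup N
  let F : T' ⟶ pullback πX t := pullback.lift f' p hf'
  have hF : Set.range F ⊆ Set.range O.ι := by
    rintro _ ⟨a, rfl⟩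
    rw [Scheme.Opens.range_ι]
    refine Opens.mem_iSup.2 ⟨a, ?_, ?_⟩
    · show pullback.fst πX t (F a) ∈ (W a : Set X)
      rw [← Scheme.Hom.comp_apply, pullback.lift_fst]; exact hxW a
    · show pullback.snd πX t (F a) ∈ p '' (f' ⁻¹' (W a : Set X))
      rw [← Scheme.Hom.comp_apply, pullback.lift_snd]; exact ⟨a, hxW a, rfl⟩
  let h : T' ⟶ (O : Scheme.{u}) := IsOpenImmersion.lift O.ι F hF
  have hh : h ≫ O.ι = F := IsOpenImmersion.lift_fac _ _ _
  have hhX : h ≫ O.ι ≫ pullback.fst πX t = f' := by rw [reassoc_of% hh]; exact pullback.lift_fst _ _ _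
  have hhT : h ≫ O.ι ≫ pullback.snd πX t = p := by rw [reassoc_of% hh]; exact pullback.lift_snd _ _ _
  have hext : ∀ {K : Type u} [Field K] (a b : Spec (CommRingCat.of K) ⟶ T'), a ≫ p = b ≫ p → a ≫ h = b ≫ h := by
    intro K _ a b hab
    rw [← cancel_mono O.ι, Category.assoc, Category.assoc, hh]
    apply pullback.hom_ext
    · rw [Category.assoc, Category.assoc, pullback.lift_fst]
      exact comp_eq_of_point p f' heq a b hab
    · rw [Category.assoc, Category.assoc, pullback.lift_snd]
      exact hab
  haveI : QuasiCompact F := by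
    haveI : QuasiCompact (F ≫ pullback.snd πX t) := by rw [pullback.lift_snd]; infer_instance
    exact QuasiCompact.of_comp F (pullback.snd πX t)
  haveI : QuasiCompact h := by
    haveI : QuasiCompact (h ≫ O.ι) := by rw [hh]; infer_instance
    exact QuasiCompact.of_comp h O.ι
  -- the image is closed
  let tO : (O : Scheme.{u}) ⟶ T := O.ι ≫ pullback.snd πX t
  let π := pullback.fst tO p
  let σ : T' ⟶ pullback tO p := pullback.lift h (𝟙 T') (by rw [Category.id_comp]; exact hhT)
  have hπ : Topology.IsQuotientMap π :=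
    hp _ _ _ (IsPullback.of_hasPullback tO p)
  have hpre : π ⁻¹' Set.range h = Set.range σ := by
    refine Set.Subset.antisymm ?_ ?_
    · rintro z ⟨b, hb⟩
      obtain ⟨w, hw₁, -⟩ := Scheme.Pullback.exists_preimage_pullback z b hb.symm
      let P := pullback π h
      let a : Spec (CommRingCat.of (P.residueField w)) ⟶ pullback tO p :=
        P.fromSpecResidueField w ≫ pullback.fst π h
      let c : Spec (CommRingCat.of (P.residueField w)) ⟶ T' := P.fromSpecResidueField w ≫ pullback.snd π h
      have hac : a ≫ π = c ≫ h := by simp only [a, c, Category.assoc, pullback.condition]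
      have hc : (a ≫ pullback.snd tO p) ≫ p = c ≫ p := by
        rw [Category.assoc, ← pullback.condition, ← Category.assoc, hac, Category.assoc]
        exact congrArg (c ≫ ·) hhT
      have hcs : a = (a ≫ pullback.snd tO p) ≫ σ := by
        apply pullback.hom_ext
        · show a ≫ π = ((a ≫ pullback.snd tO p) ≫ σ) ≫ π
          rw [Category.assoc (a ≫ pullback.snd tO p) σ π, pullback.lift_fst]
          exact hac.trans (hext _ _ hc).symm
        · rw [Category.assoc (a ≫ pullback.snd tO p) σ, pullback.lift_snd, Category.comp_id]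
      refine ⟨(a ≫ pullback.snd tO p) (IsLocalRing.closedPoint _), ?_⟩
      rw [← Scheme.Hom.comp_apply, ← hcs, Scheme.Hom.comp_apply, Scheme.fromSpecResidueField_apply, hw₁]
    · rintro _ ⟨a, rfl⟩
      refine ⟨a, ?_⟩
      rw [← Scheme.Hom.comp_apply σ π, pullback.lift_fst]
  have hσ : IsClosed (Set.range σ) := by
    refine closure_subset_iff_isClosed.1 fun z hz => ?_
    obtain ⟨x, hx⟩ := Opens.mem_iSup.1 (show O.ι (π z) ∈ iSup N from (π z).2)
    let O' : (pullback tO p).Opens := π ⁻¹ᵁ O.ι ⁻¹ᵁ N x
    let β : pullback tO p ⟶ X := pullback.snd tO p ≫ f'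
    let α : pullback tO p ⟶ X := π ≫ O.ι ≫ pullback.fst πX t
    have hαβ : α ≫ πX = β ≫ πX := by
      simp only [α, β, π, tO, Category.assoc, hf', pullback.condition]
      rw [← pullback.condition_assoc]
      simp only [Category.assoc]
    have hαW : Set.range (O'.ι ≫ α) ⊆ Set.range (W x).ι := by
      rintro _ ⟨y, rfl⟩
      rw [Scheme.Opens.range_ι]
      exact y.2.1
    have hβW : Set.range (O'.ι ≫ β) ⊆ Set.range (W x).ι := by
      rintro _ ⟨y, rfl⟩
      rw [Scheme.Opens.range_ι]
      show pullback.snd tO p (O'.ι y) ∈ f' ⁻¹' (W x : Set X)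
      rw [← hsat x]
      show p (pullback.snd tO p (O'.ι y)) ∈ V x
      have h2 : p (pullback.snd tO p (O'.ι y)) = tO (π (O'.ι y)) :=
        congrArg (fun k : pullback tO p ⟶ T => k (O'.ι y)) pullback.condition.symm
      rw [h2]
      exact y.2.2
    let α' := IsOpenImmersion.lift (W x).ι (O'.ι ≫ α) hαW
    let β' := IsOpenImmersion.lift (W x).ι (O'.ι ≫ β) hβW
    have hα' : α' ≫ (W x).ι = O'.ι ≫ α := IsOpenImmersion.lift_fac _ _ _
    have hβ' : β' ≫ (W x).ι = O'.ι ≫ β := IsOpenImmersion.lift_fac _ _ _
    haveI : IsAffine (W x : Scheme.{u}) := hW x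
    haveI : IsSeparated ((W x).ι ≫ πX) := inferInstance
    let d : (O' : Scheme.{u}) ⟶ pullback ((W x).ι ≫ πX) ((W x).ι ≫ πX) := pullback.lift α' β' (by
      rw [reassoc_of% hα', reassoc_of% hβ', hαβ])
    let e := pullback.fst d (pullback.diagonal ((W x).ι ≫ πX))
    haveI : IsClosedImmersion e :=
      MorphismProperty.pullback_fst d (pullback.diagonal ((W x).ι ≫ πX))
        (inferInstanceAs (IsClosedImmersion (pullback.diagonal ((W x).ι ≫ πX))))
    have hsub : O'.ι ⁻¹' Set.range σ ⊆ Set.range e := by
      rintro y ⟨a, ha⟩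
      let O'' : T'.Opens := σ ⁻¹ᵁ O'
      have ha' : a ∈ O'' := by show σ a ∈ O'; rw [ha]; exact y.2
      let l : (O'' : Scheme.{u}) ⟶ O' := σ ∣_ O'
      have hl : l ≫ O'.ι = O''.ι ≫ σ := morphismRestrict_ι σ O'
      have hlαβ : l ≫ α' = l ≫ β' := by
        rw [← cancel_mono (W x).ι, Category.assoc, Category.assoc, hα', hβ', reassoc_of% hl, reassoc_of% hl]
        simp only [α, β, π, σ, pullback.lift_fst_assoc, pullback.lift_snd_assoc, Category.id_comp, hhX]
      let L : (O'' : Scheme.{u}) ⟶ pullback d (pullback.diagonal ((W x).ι ≫ πX)) := pullback.lift l (l ≫ α') (by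
        apply pullback.hom_ext
        · simp only [d, Category.assoc, pullback.lift_fst, pullback.diagonal_fst, Category.comp_id]
        · simp only [d, Category.assoc, pullback.lift_snd, pullback.diagonal_snd, Category.comp_id]
          exact hlαβ.symm)
      refine ⟨L ⟨a, ha'⟩, O'.ι.isOpenEmbedding.injective ?_⟩
      rw [← ha, ← Scheme.Hom.comp_apply, ← Scheme.Hom.comp_apply, pullback.lift_fst_assoc, hl]
      rfl
    have hzO : z ∈ O' := hx
    let z' : (O' : Scheme.{u}) := ⟨z, hzO⟩
    have hz' : z' ∈ closure (O'.ι ⁻¹' Set.range σ) := by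
      rw [← O'.ι.isOpenEmbedding.isOpenMap.preimage_closure_eq_closure_preimage O'.ι.continuous]
      exact hz
    obtain ⟨y, hy⟩ := closure_minimal hsub e.isClosedEmbedding.isClosed_range hz'
    have heσ : e ≫ O'.ι = (e ≫ O'.ι ≫ pullback.snd tO p) ≫ σ := by
      apply pullback.hom_ext
      · rw [← cancel_mono O.ι]
        simp only [σ, Category.assoc, pullback.lift_fst_assoc, hh]
        apply pullback.hom_ext
        · have h1 : e ≫ α' = e ≫ β' := by
            have c := pullback.condition (f := d) (g := pullback.diagonal ((W x).ι ≫ πX))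
            have c1 := congrArg (· ≫ pullback.fst _ _) c
            have c2 := congrArg (· ≫ pullback.snd _ _) c
            simp only [d, Category.assoc, pullback.lift_fst, pullback.lift_snd, pullback.diagonal_fst,
              pullback.diagonal_snd, Category.comp_id] at c1 c2
            exact c1.trans c2.symm
          have h3 := congrArg (· ≫ (W x).ι) h1
          simp only [Category.assoc, hα', hβ', α, β] at h3
          simp only [Category.assoc, F, pullback.lift_fst]
          simpa [Category.assoc, π] using h3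
        · simp only [Category.assoc, F, pullback.lift_snd]
          rw [← pullback.condition]
      · rw [Category.assoc, Category.assoc, Category.assoc, Category.assoc, pullback.lift_snd, Category.comp_id]
    refine ⟨(e ≫ O'.ι ≫ pullback.snd tO p) y, ?_⟩
    rw [← Scheme.Hom.comp_apply, ← heσ, Scheme.Hom.comp_apply, hy]
    rfl
  have hclosed : IsClosed (Set.range h) := by
    rw [← hπ.isClosed_preimage, hpre]
    exact hσ
  let q := h.toImage
  let u : h.image ⟶ T := h.imageι ≫ tO
  have hq : q ≫ h.imageι = h := h.toImage_imageι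
  haveI : Surjective q := ⟨fun z => by
    have h1 : h.imageι z ∈ closure (Set.range h) := by
      have h2 : h.imageι z ∈ Set.range h.ker.subschemeι := ⟨z, rfl⟩
      rw [Scheme.IdealSheafData.range_subschemeι, Scheme.Hom.support_ker] at h2
      exact h2
    rw [hclosed.closure_eq] at h1
    obtain ⟨a, ha⟩ := h1
    refine ⟨a, h.imageι.isEmbedding.injective ?_⟩
    rw [← Scheme.Hom.comp_apply, hq, ha]⟩
  have hqu : q ≫ u = p := by rw [reassoc_of% hq]; exact hhT
  haveI : UniversallyInjective u := by
    rw [UniversallyInjective.iff_diagonal]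
    refine ⟨fun z => ?_⟩
    let c := (pullback u u).fromSpecResidueField z
    obtain ⟨a₀, ha₀⟩ := q.surjective ((c ≫ pullback.fst u u) (IsLocalRing.closedPoint _))
    obtain ⟨w₁, hw₁, -⟩ := Scheme.Pullback.exists_preimage_pullback (f := c ≫ pullback.fst u u) (g := q)
      (IsLocalRing.closedPoint _) a₀ ha₀.symm
    let g₁ := (pullback (c ≫ pullback.fst u u) q).fromSpecResidueField w₁ ≫ pullback.fst _ _
    obtain ⟨b₀, hb₀⟩ := q.surjective ((g₁ ≫ c ≫ pullback.snd u u) (IsLocalRing.closedPoint _))
    obtain ⟨w₂, hw₂, -⟩ := Scheme.Pullback.exists_preimage_pullback (f := g₁ ≫ c ≫ pullback.snd u u) (g := q)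
      (IsLocalRing.closedPoint _) b₀ hb₀.symm
    let g₂ := (pullback (g₁ ≫ c ≫ pullback.snd u u) q).fromSpecResidueField w₂ ≫ pullback.fst _ _
    let a := g₂ ≫ ((pullback (c ≫ pullback.fst u u) q).fromSpecResidueField w₁ ≫ pullback.snd _ _)
    let b := (pullback (g₁ ≫ c ≫ pullback.snd u u) q).fromSpecResidueField w₂ ≫ pullback.snd _ _
    have ha : g₂ ≫ g₁ ≫ c ≫ pullback.fst u u = a ≫ q := by
      simp only [a, g₁, Category.assoc, pullback.condition]
    have hb : g₂ ≫ g₁ ≫ c ≫ pullback.snd u u = b ≫ q := by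
      simp only [b, g₂, Category.assoc, pullback.condition]
    have hab : a ≫ p = b ≫ p := by
      have e1 := congrArg (· ≫ u) ha
      have e2 := congrArg (· ≫ u) hb
      simp only [Category.assoc, hqu, pullback.condition] at e1 e2
      exact e1.symm.trans e2
    have hqq : a ≫ q = b ≫ q := by
      exact (cancel_mono h.imageι).1 ((Category.assoc _ _ _).trans (((congrArg (a ≫ ·) hq).trans (hext a b hab)).trans
        ((congrArg (b ≫ ·) hq).symm.trans (Category.assoc _ _ _).symm)))
    have hdiag : g₂ ≫ g₁ ≫ c = (a ≫ q) ≫ pullback.diagonal u := by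
      apply pullback.hom_ext
      · simp only [Category.assoc, pullback.diagonal_fst, Category.comp_id]
        exact ha
      · simp only [Category.assoc, pullback.diagonal_snd, Category.comp_id]
        exact hb.trans hqq.symm
    refine ⟨(a ≫ q) (IsLocalRing.closedPoint _), ?_⟩
    rw [← Scheme.Hom.comp_apply, ← hdiag, Scheme.Hom.comp_apply, Scheme.Hom.comp_apply,
      Scheme.fromSpecResidueField_apply]
  refine ⟨h.image, q, u, h.imageι ≫ O.ι ≫ pullback.fst πX t, hqu, app_injective_toImage h,
    isUnivHomeo_of_factor q u (hqu ▸ hp), isSeparated_of_universallyInjective u, ?_, ?_⟩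
  · rw [reassoc_of% hq]; exact hhX
  · simp only [u, tO, Category.assoc, pullback.condition]

end Groth.L23.WNFac

end
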